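import Groth.Prelude.Def_NonAbH1
import Mathlib.CategoryTheory.Sites.CoversTop.Basic

/-!
# Torsors and Čech classes
-/

set_option autoImplicit false
set_option backward.isDefEq.respectTransparency false

universe w' w v u

open CategoryTheory Opposite

namespace Groth.Agent.CechClass

variable {C : Type u} [Category.{v} C] {J : GrothendieckTopology C} {G : Sheaf J GrpCat.{w}}

theorem map_map (P : NonAbH1.GSheaf G) {A B T : C} (k : A ⟶ B) (f : B ⟶ T) (z : P.P.obj.obj (op T)) :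
    P.P.obj.map k.op (P.P.obj.map f.op z) = P.P.obj.map (k ≫ f).op z := by
  rw [op_comp, P.P.obj.map_comp]
  rfl

theorem cancel {P : NonAbH1.GSheaf G} (hP : P.IsPseudoTorsor) {U : Cᵒᵖ} (p : P.P.obj.obj U) {a b : G.obj.obj U}
    (h : P.smul a p = P.smul b p) : a = b := (hP U p (P.smul b p)).unique h rfl

variable {I : Type w'} {U : I → C}

theorem existsUnique_hasCechClass (P : NonAbH1.Torsor G) (hP : P.TrivialisedBy U) :
    ∃! c : PresheafOfGroups.H1 G.obj U, P.HasCechClass U c := by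
  have pt := P.isTorsor.1
  let s : ∀ i, P.P.obj.obj (op (U i)) := fun i => (hP i).some
  let ev : ∀ (i j : I) ⦃T : C⦄ (_ : T ⟶ U i) (_ : T ⟶ U j), G.obj.obj (op T) := fun i j T a b =>
    (pt (op T) (P.P.obj.map b.op (s j)) (P.P.obj.map a.op (s i))).choose
  have hev : ∀ (i j : I) ⦃T : C⦄ (a : T ⟶ U i) (b : T ⟶ U j),
      P.smul (ev i j a b) (P.P.obj.map b.op (s j)) = P.P.obj.map a.op (s i) := fun i j T a b =>
    (pt (op T) (P.P.obj.map b.op (s j)) (P.P.obj.map a.op (s i))).choose_spec.1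
  let γ : PresheafOfGroups.OneCocycle G.obj U :=
    { ev := ev
      ev_precomp := fun i j T T' φ a b => cancel pt (P.P.obj.map (φ ≫ b).op (s j)) (by
        rw [hev, ← map_map P.toGSheaf φ b, ← P.map_smul, hev, map_map])
      ev_trans := fun i j k T a b c => cancel pt (P.P.obj.map c.op (s k)) (by rw [P.mul_smul, hev, hev, hev]) }
  refine ⟨γ.class, ⟨s, γ, hev, rfl⟩, ?_⟩
  rintro _ ⟨s', γ', hγ', rfl⟩
  refine PresheafOfGroups.OneCocycle.IsCohomologous.class_eq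
    ⟨fun i => (pt (op (U i)) (s' i) (s i)).choose, fun i j T a b => cancel pt (P.P.obj.map b.op (s' j)) ?_⟩
  have hα : ∀ i, P.smul (pt (op (U i)) (s' i) (s i)).choose (s' i) = s i := fun i =>
    (pt (op (U i)) (s' i) (s i)).choose_spec.1
  rw [P.mul_smul, P.mul_smul, hγ' i j a b, ← P.map_smul, ← P.map_smul, hα, hα]
  exact (hev i j a b).symm

theorem sep (P : NonAbH1.GSheaf G) {T : C} {S : Sieve T} (hS : S ∈ J T) {a b : P.P.obj.obj (op T)}
    (h : ∀ ⦃V : C⦄ (f : V ⟶ T), S f → P.P.obj.map f.op a = P.P.obj.map f.op b) : a = b :=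
  (((isSheaf_iff_isSheaf_of_type J P.P.obj).mp P.P.property) S hS).isSeparatedFor.ext h

variable (P Q : NonAbH1.GSheaf G) (s : ∀ i, P.P.obj.obj (op (U i))) (t : ∀ i, Q.P.obj.obj (op (U i)))

/-- `z` corresponds to `q` when their coordinates over every `U i` agree. -/
def Rel {T : C} (q : P.P.obj.obj (op T)) (z : Q.P.obj.obj (op T)) : Prop :=
  ∀ ⦃V : C⦄ (g : V ⟶ T) (i : I) (a : V ⟶ U i) (h : G.obj.obj (op V)),
    P.smul h (P.P.obj.map a.op (s i)) = P.P.obj.map g.op q → Q.smul h (Q.P.obj.map a.op (t i)) = Q.P.obj.map g.op z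

variable {P Q s t}
variable (γ : PresheafOfGroups.OneCocycle G.obj U) (hP : P.IsPseudoTorsor) (hU : J.CoversTop U)
  (hs : P.IsCocycleOf U s γ) (ht : Q.IsCocycleOf U t γ)

include hP hU in
theorem Rel.unique {T : C} {q : P.P.obj.obj (op T)} {z z' : Q.P.obj.obj (op T)}
    (h : Rel P Q s t q z) (h' : Rel P Q s t q z') : z = z' := by
  refine sep Q (hU T) fun V g hg => ?_
  obtain ⟨i, ⟨a⟩⟩ := hg
  obtain ⟨k, hk, -⟩ := hP (op V) (P.P.obj.map a.op (s i)) (P.P.obj.map g.op q)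
  rw [← h g i a k hk, ← h' g i a k hk]

include hP hU hs ht in
theorem exists_rel {T : C} (q : P.P.obj.obj (op T)) : ∃ z, Rel P Q s t q z := by
  classical
  have key : ∀ ⦃V : C⦄ (g : V ⟶ T) (i j : I) (a : V ⟶ U i) (b : V ⟶ U j) (h k : G.obj.obj (op V)),
      P.smul h (P.P.obj.map a.op (s i)) = P.P.obj.map g.op q → P.smul k (P.P.obj.map b.op (s j)) = P.P.obj.map g.op q →
        Q.smul h (Q.P.obj.map a.op (t i)) = Q.smul k (Q.P.obj.map b.op (t j)) := by
    intro V g i j a b h k h1 h2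
    rw [← ht i j a b, ← Q.mul_smul]
    congr 1
    refine cancel hP (P.P.obj.map b.op (s j)) ?_
    rw [P.mul_smul, hs i j a b, h1, h2]
  have hex : ∀ ⦃V : C⦄ (g : V ⟶ T), Sieve.ofObjects U T g → ∃ x : Q.P.obj.obj (op V),
      ∀ (i : I) (a : V ⟶ U i) (h : G.obj.obj (op V)),
        P.smul h (P.P.obj.map a.op (s i)) = P.P.obj.map g.op q → Q.smul h (Q.P.obj.map a.op (t i)) = x := by
    intro V g hg
    obtain ⟨i, ⟨a⟩⟩ := hg
    obtain ⟨k, hk, -⟩ := hP (op V) (P.P.obj.map a.op (s i)) (P.P.obj.map g.op q)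
    exact ⟨Q.smul k (Q.P.obj.map a.op (t i)), fun j b h hh => key g j i b a h k hh hk⟩
  choose x hx using hex
  have hc : Presieve.FamilyOfElements.Compatible (P := Q.P.obj) (R := (Sieve.ofObjects U T).arrows) x := by
    intro V₁ V₂ W g₁ g₂ f₁ f₂ h₁ h₂ e
    obtain ⟨i, ⟨a⟩⟩ := id h₁
    obtain ⟨j, ⟨b⟩⟩ := id h₂
    obtain ⟨k, hk, -⟩ := hP (op V₁) (P.P.obj.map a.op (s i)) (P.P.obj.map f₁.op q)
    obtain ⟨l, hl, -⟩ := hP (op V₂) (P.P.obj.map b.op (s j)) (P.P.obj.map f₂.op q)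
    show Q.P.obj.map g₁.op (x f₁ h₁) = Q.P.obj.map g₂.op (x f₂ h₂)
    rw [← hx f₁ h₁ i a k hk, ← hx f₂ h₂ j b l hl, Q.map_smul, Q.map_smul, map_map, map_map]
    refine key (g₁ ≫ f₁) i j _ _ _ _ ?_ ?_
    · rw [← map_map P g₁ a, ← P.map_smul, hk, map_map]
    · rw [← map_map P g₂ b, ← P.map_smul, hl, map_map, e]
  obtain ⟨z, hz, -⟩ := ((isSheaf_iff_isSheaf_of_type J Q.P.obj).mp Q.P.property) _ (hU T) x hc
  exact ⟨z, fun V g i a h hh => (hx g ⟨i, ⟨a⟩⟩ i a h hh).trans (hz g ⟨i, ⟨a⟩⟩).symm⟩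

theorem Rel.map {T T' : C} (f : T' ⟶ T) {q : P.P.obj.obj (op T)} {z : Q.P.obj.obj (op T)} (h : Rel P Q s t q z) :
    Rel P Q s t (P.P.obj.map f.op q) (Q.P.obj.map f.op z) := by
  intro V g i a k hk
  rw [map_map] at hk ⊢
  exact h (g ≫ f) i a k hk

theorem Rel.smul {T : C} (r : G.obj.obj (op T)) {q : P.P.obj.obj (op T)} {z : Q.P.obj.obj (op T)}
    (h : Rel P Q s t q z) : Rel P Q s t (P.smul r q) (Q.smul r z) := by
  intro V g i a k hk
  rw [P.map_smul] at hk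
  have h1 := h g i a ((G.obj.map g.op r)⁻¹ * k) (by rw [P.mul_smul, hk, ← P.mul_smul, inv_mul_cancel, P.one_smul])
  rw [Q.map_smul, ← h1, ← Q.mul_smul, mul_inv_cancel_left]

include hP hU hs ht in
theorem exists_hom : ∃ f : P ⟶ Q, ∀ (T : C) (q : P.P.obj.obj (op T)), Rel P Q s t q (f.hom.hom.app (op T) q) := by
  choose F hF using fun (T : Cᵒᵖ) (q : P.P.obj.obj T) => exists_rel γ hP hU hs ht (T := T.unop) q
  refine ⟨⟨⟨{ app := fun T => TypeCat.ofHom (F T), naturality := ?_ }⟩, ?_⟩, fun T q => hF (op T) q⟩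
  · intro T T' f
    refine ConcreteCategory.hom_ext _ _ fun q => ?_
    exact Rel.unique hP hU (hF T' _) ((hF T q).map f.unop)
  · intro T r q
    exact Rel.unique hP hU (hF T _) ((hF T q).smul r)

end Groth.Agent.CechClass
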